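import Groth.Agent.NormFieldX.Props
import Groth.Agent.BirNormal.Basic
import Groth.Agent.S9821
import Groth.Prelude.Def_Pi1

/-!
Uniqueness of the normalization of an integral scheme in a field extension of its function field.
-/

universe u

open CategoryTheory CategoryTheory.Limits AlgebraicGeometry TopologicalSpace

set_option autoImplicit false
set_option backward.isDefEq.respectTransparency false
set_option backward.isDefEq.respectTransparency.types false
set_option linter.style.haveILetI false

namespace Groth.Agent.NormUniq

variable {X : Scheme.{u}} [IsIntegral X] {L : Type u} [Field L] (φ : X.functionField →+* L)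

theorem bijective_stalkClosedPointTo_toNormalization (n : Spec (CommRingCat.of L) ⟶ X)
    [QuasiCompact n] [QuasiSeparated n] (hn : n = NormFieldX.pnt X L φ) (hint : φ.IsIntegral) :
    Function.Bijective (Scheme.stalkClosedPointTo n.toNormalization).hom ∧
      n.toNormalization (IsLocalRing.closedPoint L) = genericPoint n.normalization ∧
      n.fromNormalization (n.toNormalization (IsLocalRing.closedPoint L)) = genericPoint X ∧
      n.fromNormalization ⁻¹' {genericPoint X} = {n.toNormalization (IsLocalRing.closedPoint L)} := by
  subst hn
  obtain ⟨h1, h2⟩ := NormFieldX.range_stalkClosedPointTo X L φ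
  refine ⟨⟨h1, fun y => ?_⟩, NormFieldX.η_eq X L φ, NormFieldX.ν_η X L φ, ?_⟩
  · exact h2.ge (hint y)
  · show _ = {NormFieldX.η X L φ}
    rw [NormFieldX.η_eq X L φ]
    exact NormFieldX.preimage_genericPoint

/-- A normal integral scheme integral over `X` with function field `L` is the normalization of `X` in `L`. -/
theorem exists_iso (n : Spec (CommRingCat.of L) ⟶ X) [QuasiCompact n] [QuasiSeparated n]
    (hn : n = NormFieldX.pnt X L φ) (hint : φ.IsIntegral)
    {Y : Scheme.{u}} [IsIntegral Y] (hY : Pi1.IsNormalScheme Y) (f : Y ⟶ X) [IsIntegralHom f]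
    (j : Spec (CommRingCat.of L) ⟶ Y) (hj : j ≫ f = n)
    (hjη : j (IsLocalRing.closedPoint L) = genericPoint Y)
    (hbij : Function.Bijective (Scheme.stalkClosedPointTo j).hom) :
    ∃ e : n.normalization ≅ Y, e.hom ≫ f = n.fromNormalization ∧ n.toNormalization ≫ e.hom = j := by
  obtain ⟨hc, hη, -, -⟩ := bijective_stalkClosedPointTo_toNormalization φ n hn hint
  haveI : IsIntegral n.normalization := by subst hn; infer_instance
  let d := n.normalizationDesc j f hj.symm
  have hd1 : n.toNormalization ≫ d = j := n.toNormalization_normalizationDesc _ _ hj.symm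
  have hd2 : d ≫ f = n.fromNormalization := n.normalizationDesc_comp _ _ hj.symm
  have hgen : d (genericPoint n.normalization) = genericPoint Y := by
    rw [← hη, ← Scheme.Hom.comp_apply, hd1, hjη]
  have key : ∀ (w : Spec (CommRingCat.of L) ⟶ Y), w = n.toNormalization ≫ d →
      Function.Bijective (Scheme.stalkClosedPointTo w).hom →
        Function.Bijective (d.stalkMap (n.toNormalization (IsLocalRing.closedPoint L))).hom := by
    rintro w rfl hw
    rw [Scheme.stalkClosedPointTo_comp, CommRingCat.hom_comp, RingHom.coe_comp] at hw
    exact ⟨Function.Injective.of_comp hw.1, fun b => by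
      obtain ⟨a, ha⟩ := hw.2 ((Scheme.stalkClosedPointTo n.toNormalization).hom b)
      exact ⟨a, hc.1 ha⟩⟩
  have hb : Function.Bijective (d.stalkMap (genericPoint n.normalization)).hom := by
    have aux : ∀ z, z = n.toNormalization (IsLocalRing.closedPoint L) →
        Function.Bijective (d.stalkMap z).hom := by
      rintro z rfl; exact key j hd1.symm hbij
    exact aux _ hη.symm
  haveI := BirNormal.isIso_stalkSpecializes_of_eq hgen (specializes_of_eq hgen)
  haveI : IsIso d := by
    refine BirNormal.isIso_of_isIntegralHom d (fun U hne hU => (S9821.result Y).1 hY U hU) hgen ?_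
    rw [CommRingCat.hom_comp, RingHom.coe_comp]
    exact hb.comp (ConcreteCategory.bijective_of_isIso (Y.presheaf.stalkSpecializes (specializes_of_eq hgen)))
  exact ⟨asIso d, hd2, hd1⟩

/-- A morphism from the spectrum of a field which is surjective on the stalk is a preimmersion. -/
theorem isPreimmersion_of_surjective {Y : Scheme.{u}} (j : Spec (CommRingCat.of L) ⟶ Y)
    (h : Function.Surjective (Scheme.stalkClosedPointTo j).hom) : IsPreimmersion j := by
  haveI hs : Subsingleton ↥(Spec (CommRingCat.of L)) := inferInstanceAs (Subsingleton (PrimeSpectrum L))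
  haveI : SurjectiveOnStalks j := ⟨fun x => by
    obtain rfl : x = IsLocalRing.closedPoint L := Subsingleton.elim _ _
    intro b
    obtain ⟨a, ha⟩ := h ((stalkClosedPointIso (CommRingCat.of L)).hom b)
    refine ⟨a, (ConcreteCategory.bijective_of_isIso (stalkClosedPointIso (CommRingCat.of L)).hom).1 ?_⟩
    exact ha⟩
  exact ⟨Topology.IsEmbedding.of_subsingleton _⟩

theorem surjective_of_isPreimmersion {Y : Scheme.{u}} (j : Spec (CommRingCat.of L) ⟶ Y)
    [IsPreimmersion j] : Function.Surjective (Scheme.stalkClosedPointTo j).hom := by
  show Function.Surjective (j.stalkMap (IsLocalRing.closedPoint L) ≫ (stalkClosedPointIso (CommRingCat.of L)).hom).hom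
  rw [CommRingCat.hom_comp, RingHom.coe_comp]
  exact (ConcreteCategory.bijective_of_isIso (stalkClosedPointIso (CommRingCat.of L)).hom).2.comp
    (j.stalkMap_surjective _)

/-- A preimmersion of the spectrum of a field onto the generic point is bijective on stalks. -/
theorem bijective_of_isPreimmersion {Y : Scheme.{u}} [IsIntegral Y] (j : Spec (CommRingCat.of L) ⟶ Y)
    [IsPreimmersion j] (hjη : j (IsLocalRing.closedPoint L) = genericPoint Y) :
    Function.Bijective (Scheme.stalkClosedPointTo j).hom := by
  have hF : IsField (Y.presheaf.stalk (j (IsLocalRing.closedPoint L))) := by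
    rw [hjη]; exact Field.toIsField Y.functionField
  refine ⟨?_, surjective_of_isPreimmersion j⟩
  letI := hF.toField
  exact (Scheme.stalkClosedPointTo j).hom.injective

theorem isIso_stalkMap_fromNormalization (n : Spec X.functionField ⟶ X)
    [QuasiCompact n] [QuasiSeparated n] (hn : n = X.fromSpecStalk (genericPoint X)) :
    IsIso (n.fromNormalization.stalkMap (genericPoint n.normalization)) := by
  obtain ⟨hc, hη, -, -⟩ := bijective_stalkClosedPointTo_toNormalization (L := X.functionField)
    (RingHom.id _) n (by rw [hn, NormFieldX.pnt]; simp) (fun y => isIntegral_algebraMap (R := X.functionField))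
  have h1 : IsIso (Scheme.stalkClosedPointTo (n.toNormalization ≫ n.fromNormalization)) := by
    rw [Scheme.Hom.toNormalization_fromNormalization]
    subst hn
    rw [Scheme.stalkClosedPointTo_fromSpecStalk]
    infer_instance
  have h2 := (ConcreteCategory.isIso_iff_bijective _).1 h1
  rw [Scheme.stalkClosedPointTo_comp] at h2
  have h3 : IsIso (n.fromNormalization.stalkMap (n.toNormalization (IsLocalRing.closedPoint X.functionField))) := by
    refine (ConcreteCategory.isIso_iff_bijective _).2 ⟨?_, fun b => ?_⟩
    · exact fun a b hab => h2.1 (congrArg (Scheme.stalkClosedPointTo n.toNormalization).hom hab)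
    · obtain ⟨a, ha⟩ := h2.2 ((Scheme.stalkClosedPointTo n.toNormalization).hom b)
      exact ⟨a, hc.1 ha⟩
  rw [← hη]
  exact h3

end Groth.Agent.NormUniq
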