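import Groth.Agent.NormUniq.Basic
import Groth.Prelude.Def_Curv2
import Groth.Agent.S2351

/-!
Characterisation of the normalization of an integral scheme.
-/

universe u

open CategoryTheory CategoryTheory.Limits AlgebraicGeometry TopologicalSpace

set_option autoImplicit false
set_option backward.isDefEq.respectTransparency false
set_option backward.isDefEq.respectTransparency.types false
set_option linter.style.haveILetI false

namespace Groth.Agent.NormUniq

variable (X : Scheme.{u}) [IsIntegral X]
    [QuasiCompact (X.fromSpecStalk (genericPoint X))] [QuasiSeparated (X.fromSpecStalk (genericPoint X))]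
    {Y : Scheme.{u}} (f : Y ⟶ X)

theorem isIntegral_of_normal (hY : Pi1.IsNormalScheme Y) (hirr : IrreducibleSpace ↥Y) : IsIntegral Y := by
  haveI := hirr
  haveI : ∀ y : Y, _root_.IsReduced (Y.presheaf.stalk y) := fun y => haveI := (hY y).1; inferInstance
  haveI := isReduced_of_isReduced_stalk Y
  exact isIntegral_of_irreducibleSpace_of_isReduced Y

theorem overIso_birational (e : Y ≅ Curv2.normalization X) (he : e.hom ≫ Curv2.normalizationι X = f) :
    Pi1.IsNormalScheme Y ∧ IsIntegralHom f ∧
      ∃ _ : IrreducibleSpace ↥Y, f.base ⁻¹' {genericPoint X} = {genericPoint Y} ∧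
        IsIso (f.stalkMap (genericPoint Y)) := by
  obtain ⟨hint, hN, -, hgen, -⟩ := Groth.Agent.S2351.result X
  haveI := hint
  haveI : Nonempty ↥Y := ⟨e.inv (genericPoint (Curv2.normalization X))⟩
  haveI : IsIntegral Y := isIntegral_of_isOpenImmersion e.hom
  haveI : IsIntegralHom (Curv2.normalizationι X) :=
    inferInstanceAs (IsIntegralHom (X.fromSpecStalk (genericPoint X)).fromNormalization)
  have hYN : Pi1.IsNormalScheme Y := fun y => by
    haveI := (hN (e.hom y)).1
    haveI := (hN (e.hom y)).2
    let r : (Curv2.normalization X).presheaf.stalk (e.hom y) ≃+* Y.presheaf.stalk y :=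
      (asIso (e.hom.stalkMap y)).commRingCatIsoToRingEquiv
    exact ⟨r.symm.toMulEquiv.isDomain _, IsIntegrallyClosed.of_equiv r⟩
  refine ⟨hYN, by rw [← he]; infer_instance, inferInstance, ?_, ?_⟩
  · obtain ⟨-, hη, hνη, hpre⟩ := bijective_stalkClosedPointTo_toNormalization (L := X.functionField)
      (RingHom.id _) (X.fromSpecStalk (genericPoint X)) (by rw [NormFieldX.pnt]; simp)
      (fun y => isIntegral_algebraMap (R := X.functionField))
    rw [← he, ← genericPoint_eq_of_isOpenImmersion e.hom] at *
    ext y
    show Curv2.normalizationι X (e.hom y) = genericPoint X ↔ y = genericPoint Y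
    refine ⟨fun h => e.hom.isOpenEmbedding.injective ?_, fun h => by
      rw [h]; exact hgen⟩
    have h' : e.hom y ∈ (X.fromSpecStalk (genericPoint X)).fromNormalization ⁻¹' {genericPoint X} := h
    rw [hpre] at h'
    exact (h'.trans hη).trans (genericPoint_eq_of_isOpenImmersion e.hom).symm
  · subst he
    rw [Scheme.Hom.stalkMap_comp]
    have h1 : IsIso ((Curv2.normalizationι X).stalkMap (e.hom (genericPoint Y))) := by
      rw [genericPoint_eq_of_isOpenImmersion e.hom]
      exact isIso_stalkMap_fromNormalization _ rfl
    exact IsIso.comp_isIso' h1 inferInstance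

theorem exists_overIso_of_birational (hY : Pi1.IsNormalScheme Y) [IsIntegralHom f] [IsIntegral Y]
    (hgen : f (genericPoint Y) = genericPoint X) (hiso : IsIso (f.stalkMap (genericPoint Y))) :
    ∃ e : Y ≅ Curv2.normalization X, e.hom ≫ Curv2.normalizationι X = f := by
  haveI := hiso
  haveI := BirNormal.isIso_stalkSpecializes_of_eq hgen (specializes_of_eq hgen)
  let ψ : X.functionField ⟶ Y.presheaf.stalk (genericPoint Y) :=
    X.presheaf.stalkSpecializes (specializes_of_eq hgen) ≫ f.stalkMap (genericPoint Y)
  haveI : IsIso ψ := IsIso.comp_isIso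
  let j : Spec X.functionField ⟶ Y := Spec.map (inv ψ) ≫ Y.fromSpecStalk (genericPoint Y)
  have hψ : Spec.map ψ ≫ X.fromSpecStalk (genericPoint X) = Y.fromSpecStalk (genericPoint Y) ≫ f := by
    simp only [ψ, Spec.map_comp, Category.assoc, Scheme.SpecMap_stalkSpecializes_fromSpecStalk]
    exact Scheme.SpecMap_stalkMap_fromSpecStalk f
  have hj : j ≫ f = X.fromSpecStalk (genericPoint X) := by
    rw [Category.assoc, ← hψ, ← Spec.map_comp_assoc, IsIso.hom_inv_id, Spec.map_id, Category.id_comp]
  have hjη : j (IsLocalRing.closedPoint X.functionField) = genericPoint Y := by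
    haveI : Subsingleton ↥(Spec (Y.presheaf.stalk (genericPoint Y))) :=
      inferInstanceAs (Subsingleton (PrimeSpectrum Y.functionField))
    exact (congrArg (Y.fromSpecStalk (genericPoint Y)) (Subsingleton.elim _
      (IsLocalRing.closedPoint Y.functionField))).trans Scheme.fromSpecStalk_closedPoint
  obtain ⟨e, he, -⟩ := exists_iso (L := X.functionField) (RingHom.id _)
    (X.fromSpecStalk (genericPoint X)) (by rw [NormFieldX.pnt]; simp)
    (fun y => isIntegral_algebraMap (R := X.functionField)) hY f j hj hjη
    (bijective_of_isPreimmersion j hjη)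
  exact ⟨e.symm, by rw [Iso.symm_hom, Iso.inv_comp_eq]; exact he.symm⟩

end Groth.Agent.NormUniq
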