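import Groth.Agent.NormUniq.Basic
import Groth.Agent.S0246
import Groth.Agent.EtStalk.Basic
import Groth.Prelude.Def_FEt

/-!
Finite etale covers of a normal integral scheme with given generic fibre.
-/

universe u

open CategoryTheory CategoryTheory.Limits AlgebraicGeometry TopologicalSpace

set_option autoImplicit false
set_option backward.isDefEq.respectTransparency false
set_option backward.isDefEq.respectTransparency.types false
set_option linter.style.haveILetI false

namespace Groth.Agent.NormUniq

variable {X : Scheme.{u}} [IsIntegral X] {L : Type u} [Field L] (φ : X.functionField →+* L)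
  (n : Spec (CommRingCat.of L) ⟶ X) [QuasiCompact n] [QuasiSeparated n]

theorem finite_etale_of_generic (hn : n = NormFieldX.pnt X L φ) (hint : φ.IsIntegral)
    (hX : Pi1.IsNormalScheme X) {W : Scheme.{u}} (g : W ⟶ X) [IsFinite g] [Etale g]
    (i : Spec (CommRingCat.of L) ⟶ pullback g (X.fromSpecStalk (genericPoint X))) [IsIso i]
    (hi : i ≫ pullback.snd _ _ = Spec.map (CommRingCat.ofHom φ)) :
    Etale n.fromNormalization ∧ IsFinite n.fromNormalization := by
  let j : Spec (CommRingCat.of L) ⟶ W := i ≫ pullback.fst g (X.fromSpecStalk (genericPoint X))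
  haveI : IsPreimmersion j := IsPreimmersion.comp _ _
  have hj : j ≫ g = n := by
    rw [hn, NormFieldX.pnt, ← hi, Category.assoc, Category.assoc, pullback.condition]
  haveI : Subsingleton ↥(Spec (CommRingCat.of L)) := inferInstanceAs (Subsingleton (PrimeSpectrum L))
  have huniq : ∀ z : W, g z = genericPoint X → z = j (IsLocalRing.closedPoint L) := by
    intro z hz
    have : z ∈ Set.range (pullback.fst g (X.fromSpecStalk (genericPoint X))) := by
      rw [Scheme.Pullback.range_fst]
      exact ⟨IsLocalRing.closedPoint X.functionField, (Scheme.fromSpecStalk_closedPoint).trans hz.symm⟩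
    obtain ⟨p, rfl⟩ := this
    obtain ⟨q, rfl⟩ := i.homeomorph.surjective p
    rw [Subsingleton.elim q (IsLocalRing.closedPoint L)]
    rfl
  have hspec : ∀ w : W, j (IsLocalRing.closedPoint L) ⤳ w := fun w => by
    obtain ⟨z, hzw, hz⟩ := Flat.generalizingMap g (genericPoint_specializes (g w))
    rwa [← huniq z hz]
  haveI : IrreducibleSpace ↥W := by
    rw [irreducibleSpace_def]
    show IsIrreducible (Set.univ : Set ↥W)
    rw [← Set.eq_univ_of_forall fun w => (hspec w).mem_closure]
    exact isIrreducible_singleton.closure
  haveI : ConnectedSpace ↥W := inferInstance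
  let Z : FEt.Cat X := MorphismProperty.Over.mk ⊤ g ⟨inferInstance, inferInstance⟩
  haveI : ConnectedSpace ↥Z.left := inferInstanceAs (ConnectedSpace ↥W)
  obtain ⟨hintZ, hZ⟩ := Groth.Agent.S0246.result hX Z
  haveI : IsIntegral W := hintZ
  have hjη : j (IsLocalRing.closedPoint L) = genericPoint W :=
    ((isGenericPoint_iff_specializes.2 fun w => ⟨fun _ => trivial, fun _ => hspec w⟩).eq
      (genericPoint_spec _) : _)
  obtain ⟨e, he, -⟩ := exists_iso φ n hn hint hZ g j hj hjη (bijective_of_isPreimmersion j hjη)
  rw [← he]
  exact ⟨inferInstance, inferInstance⟩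

theorem generic_of_finite_etale (hn : n = NormFieldX.pnt X L φ) (hint : φ.IsIntegral)
    [Etale n.fromNormalization] :
    ∃ i : Spec (CommRingCat.of L) ⟶ pullback n.fromNormalization (X.fromSpecStalk (genericPoint X)),
      IsIso i ∧ i ≫ pullback.snd _ _ = Spec.map (CommRingCat.ofHom φ) := by
  obtain ⟨hc, hη, -, hpre⟩ := bijective_stalkClosedPointTo_toNormalization φ n hn hint
  haveI := isPreimmersion_of_surjective n.toNormalization hc.2
  let P := pullback n.fromNormalization (X.fromSpecStalk (genericPoint X))
  let h : Spec (CommRingCat.of L) ⟶ P := pullback.lift n.toNormalization (Spec.map (CommRingCat.ofHom φ))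
    (by rw [Scheme.Hom.toNormalization_fromNormalization, hn]; rfl)
  haveI : IsPreimmersion (h ≫ pullback.fst n.fromNormalization (X.fromSpecStalk (genericPoint X))) := by
    rw [pullback.lift_fst]; infer_instance
  haveI : IsPreimmersion h := IsPreimmersion.of_comp h (pullback.fst _ _)
  have hsurj : Function.Surjective h := fun p => by
    refine ⟨IsLocalRing.closedPoint L,
      (pullback.fst n.fromNormalization (X.fromSpecStalk (genericPoint X))).isEmbedding.injective ?_⟩
    have hp : pullback.fst n.fromNormalization (X.fromSpecStalk (genericPoint X)) p ∈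
        n.fromNormalization ⁻¹' {genericPoint X} := by
      show n.fromNormalization _ = genericPoint X
      rw [← Scheme.Hom.comp_apply, pullback.condition, Scheme.Hom.comp_apply]
      haveI : Subsingleton ↥(Spec (X.presheaf.stalk (genericPoint X))) :=
        inferInstanceAs (Subsingleton (PrimeSpectrum X.functionField))
      exact (congrArg (X.fromSpecStalk (genericPoint X)) (Subsingleton.elim _
        (IsLocalRing.closedPoint X.functionField))).trans Scheme.fromSpecStalk_closedPoint
    rw [hpre] at hp
    rw [← Scheme.Hom.comp_apply, pullback.lift_fst]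
    exact hp.symm
  haveI : Surjective h := ⟨hsurj⟩
  haveI : IsClosedImmersion h := IsClosedImmersion.of_isPreimmersion h (by
    rw [hsurj.range_eq]; exact isClosed_univ)
  haveI : IsReduced P := by
    haveI : ∀ p : P, _root_.IsReduced (P.presheaf.stalk p) := fun p => by
      refine (EtStalk.reduced_stalk_iff (pullback.snd n.fromNormalization (X.fromSpecStalk (genericPoint X))) p).2 ?_
      haveI : IsReduced (Spec (X.presheaf.stalk (genericPoint X))) :=
        inferInstanceAs (IsReduced (Spec X.functionField))
      infer_instance
    exact isReduced_of_isReduced_stalk P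
  exact ⟨h, isIso_of_isClosedImmersion_of_surjective h, pullback.lift_snd _ _ _⟩

end Groth.Agent.NormUniq
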